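import Mathlib

/-! Setting for S3403: a class of subgroups of order 11 any two of which generate
`PSL(2,11)` or `J₁`. -/

set_option autoImplicit false

namespace Cfsg.Agent.F11

open Subgroup

/-- Order-level description of `PSL(2,11)`. -/
def LT (H : Type*) [Group H] : Prop :=
  Nat.card H = 660 ∧ IsSimpleGroup H ∧ ∀ x : H, orderOf x ∈ ({1, 2, 3, 5, 6, 11} : Set ℕ)

/-- Order-level description of `J₁`. -/
def JT (H : Type*) [Group H] : Prop :=
  Nat.card H = 175560 ∧ IsSimpleGroup H ∧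
    Set.range (orderOf : H → ℕ) = ({1, 2, 3, 5, 6, 7, 10, 11, 15, 19} : Set ℕ)

/-- The points `Ω` are subgroups of order 11, permuted by conjugation. -/
structure Geo (G Ω : Type*) [Group G] [MulAction G Ω] where
  pt : Ω → Subgroup G
  inj : Function.Injective pt
  card : ∀ a, Nat.card (pt a) = 11
  mem_smul : ∀ (g : G) (a : Ω) (y : G), y ∈ pt (g • a) ↔ g⁻¹ * y * g ∈ pt a
  trans : ∀ a b : Ω, ∃ g : G, g • a = b
  gen : ⨆ a, pt a = ⊤
  pair : ∀ a b, a ≠ b → LT ↥(pt a ⊔ pt b) ∨ JT ↥(pt a ⊔ pt b)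

variable {G Ω : Type*} [Group G] [MulAction G Ω]

namespace Geo

variable (Γ : Geo G Ω)

/-- `G` acts faithfully on the points. -/
def Faithful (_Γ : Geo G Ω) : Prop := ∀ g : G, (∀ a : Ω, g • a = a) → g = 1

/-- `g` centralises the point `a`. -/
def Cent (g : G) (a : Ω) : Prop := ∀ y ∈ Γ.pt a, g * y = y * g

/-- A line: a subgroup of type `PSL(2,11)` containing a point. -/
def IsLine (L : Subgroup G) : Prop := LT ↥L ∧ ∃ a, Γ.pt a ≤ L

/-- A block: a subgroup of type `J₁` containing a point. -/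
def IsBlock (J : Subgroup G) : Prop := JT ↥J ∧ ∃ a, Γ.pt a ≤ J

open Classical in
/-- The scalar by which `g` acts on the point `a` (meaningful when `g • a = a`). -/
noncomputable def sc (g : G) (a : Ω) : ZMod 11 :=
  if h : ∃ k : ZMod 11, ∀ y ∈ Γ.pt a, g * y * g⁻¹ = y ^ k.val then h.choose else 0

/-- Hypotheses of case A: all pairs generate lines, the action is faithful, and a nontrivial
element centralises the points of at most one line. -/
structure HypA : Prop where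
  faith : Γ.Faithful
  lt : ∀ a b, a ≠ b → LT ↥(Γ.pt a ⊔ Γ.pt b)
  fixline : ∀ c : G, c ≠ 1 → ∀ a b r, a ≠ b → Γ.Cent c a → Γ.Cent c b → Γ.Cent c r →
    Γ.pt r ≤ Γ.pt a ⊔ Γ.pt b

theorem conj_mem {g : G} {a : Ω} {y : G} (hy : y ∈ Γ.pt a) : g * y * g⁻¹ ∈ Γ.pt (g • a) := by
  rw [Γ.mem_smul]; simpa [mul_assoc] using hy

theorem pt_smul (g : G) (a : Ω) : Γ.pt (g • a) = (Γ.pt a).map (MulAut.conj g).toMonoidHom := by
  ext y
  rw [Γ.mem_smul, Subgroup.mem_map]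
  constructor
  · intro h; exact ⟨_, h, by simp [mul_assoc]⟩
  · rintro ⟨z, hz, rfl⟩; simpa [mul_assoc] using hz

theorem smul_eq_iff (g : G) (a : Ω) : g • a = a ↔ g ∈ normalizer (Γ.pt a : Set G) := by
  rw [Subgroup.mem_normalizer_iff'']
  constructor
  · intro h y
    have := Γ.mem_smul g a y
    rw [h] at this
    simpa using this
  · intro h
    apply Γ.inj
    ext y
    rw [Γ.mem_smul]
    simpa using (h y).symm

theorem finite_pt (a : Ω) : Finite (Γ.pt a) :=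
  Nat.finite_of_card_ne_zero (by rw [Γ.card]; norm_num)

theorem exists_gen (a : Ω) : ∃ p : G, orderOf p = 11 ∧ zpowers p = Γ.pt a := by
  haveI := Γ.finite_pt a
  haveI : Fact (Nat.Prime 11) := ⟨by norm_num⟩
  haveI : IsCyclic (Γ.pt a) := isCyclic_of_prime_card (Γ.card a)
  obtain ⟨p, hp⟩ := IsCyclic.exists_generator (α := Γ.pt a)
  have ho : orderOf p = 11 := by
    rw [orderOf_eq_card_of_forall_mem_zpowers hp, Γ.card]
  refine ⟨p, by rw [Subgroup.orderOf_coe, ho], ?_⟩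
  apply le_antisymm
  · rw [Subgroup.zpowers_le]; exact p.2
  · intro y hy
    obtain ⟨k, hk⟩ := hp ⟨y, hy⟩
    exact ⟨k, by simpa using congrArg Subtype.val hk⟩

theorem pow_eleven {a : Ω} {y : G} (hy : y ∈ Γ.pt a) : y ^ 11 = 1 := by
  have := pow_card_eq_one' (x := (⟨y, hy⟩ : Γ.pt a))
  rw [Γ.card] at this
  simpa using congrArg Subtype.val this

theorem orderOf_mem {a : Ω} {y : G} (hy : y ∈ Γ.pt a) (h1 : y ≠ 1) : orderOf y = 11 := by
  haveI : Fact (Nat.Prime 11) := ⟨by norm_num⟩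
  exact orderOf_eq_prime (Γ.pow_eleven hy) h1

theorem zpowers_eq {a : Ω} {y : G} (hy : y ∈ Γ.pt a) (h1 : y ≠ 1) : zpowers y = Γ.pt a := by
  haveI := Γ.finite_pt a
  apply Subgroup.eq_of_le_of_card_ge (by rw [Subgroup.zpowers_le]; exact hy)
  rw [Nat.card_zpowers, Γ.orderOf_mem hy h1, Γ.card]

theorem comm_mem {a : Ω} {y z : G} (hy : y ∈ Γ.pt a) (hz : z ∈ Γ.pt a) : y * z = z * y := by
  obtain ⟨p, -, hp⟩ := Γ.exists_gen a
  rw [← hp] at hy hz
  obtain ⟨i, rfl⟩ := hy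
  obtain ⟨j, rfl⟩ := hz
  exact (Commute.zpow_zpow_self p i j).eq

theorem cent_of_mem {a : Ω} {y : G} (hy : y ∈ Γ.pt a) : Γ.Cent y a :=
  fun _ hz => Γ.comm_mem hy hz

theorem cent_iff (g : G) (a : Ω) : Γ.Cent g a ↔ g ∈ centralizer (Γ.pt a : Set G) := by
  rw [Subgroup.mem_centralizer_iff]
  exact ⟨fun h y hy => (h y hy).symm, fun h y hy => (h y hy).symm⟩

variable {Γ} in
theorem Cent.smul_eq {g : G} {a : Ω} (h : Γ.Cent g a) : g • a = a := by
  rw [Γ.smul_eq_iff]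
  exact Subgroup.centralizer_le_normalizer _ ((Γ.cent_iff g a).1 h)

theorem smul_of_mem {a : Ω} {y : G} (hy : y ∈ Γ.pt a) : y • a = a := (Γ.cent_of_mem hy).smul_eq

/-- Two points sharing a nontrivial element are equal. -/
theorem eq_of_mem {a b : Ω} {y : G} (ha : y ∈ Γ.pt a) (hb : y ∈ Γ.pt b) (h1 : y ≠ 1) : a = b :=
  Γ.inj (by rw [← Γ.zpowers_eq ha h1, ← Γ.zpowers_eq hb h1])

theorem pow_val_eq {a : Ω} {y : G} (hy : y ∈ Γ.pt a) (n : ℕ) :
    y ^ ((n : ZMod 11)).val = y ^ n := by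
  rw [ZMod.val_natCast]
  conv_rhs => rw [← Nat.mod_add_div n 11, pow_add, pow_mul, Γ.pow_eleven hy, one_pow, mul_one]

theorem pow_val_inj {a : Ω} {y : G} (hy : y ∈ Γ.pt a) (h1 : y ≠ 1) {k l : ZMod 11}
    (h : y ^ k.val = y ^ l.val) : k = l := by
  rw [pow_eq_pow_iff_modEq, Γ.orderOf_mem hy h1] at h
  have := (ZMod.natCast_eq_natCast_iff k.val l.val 11).2 h
  simpa using this

theorem sc_spec {g : G} {a : Ω} (h : g • a = a) :
    ∀ y ∈ Γ.pt a, g * y * g⁻¹ = y ^ (Γ.sc g a).val := by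
  have hex : ∃ k : ZMod 11, ∀ y ∈ Γ.pt a, g * y * g⁻¹ = y ^ k.val := by
    obtain ⟨p, hp, hpa⟩ := Γ.exists_gen a
    have hpm : p ∈ Γ.pt a := hpa ▸ Subgroup.mem_zpowers p
    have h1 : g * p * g⁻¹ ∈ zpowers p := by
      rw [hpa]; have := Γ.conj_mem (g := g) hpm; rwa [h] at this
    have hfin : IsOfFinOrder p := by rw [← orderOf_pos_iff, hp]; norm_num
    rw [← hfin.mem_powers_iff_mem_zpowers] at h1
    obtain ⟨n, hn⟩ := h1
    refine ⟨(n : ZMod 11), fun y hy => ?_⟩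
    rw [Γ.pow_val_eq hy]
    rw [← hpa] at hy
    obtain ⟨i, rfl⟩ := hy
    have : g * p ^ i * g⁻¹ = (g * p * g⁻¹) ^ i := by simp [conj_zpow]
    simp only at hn ⊢
    rw [this, ← hn, ← zpow_natCast, ← zpow_natCast, ← zpow_mul, ← zpow_mul, mul_comm]
  unfold sc
  rw [dif_pos hex]
  exact hex.choose_spec

theorem sc_eq {g : G} {a : Ω} (h : g • a = a) {y : G} (hy : y ∈ Γ.pt a) (h1 : y ≠ 1)
    {k : ZMod 11} (hk : g * y * g⁻¹ = y ^ k.val) : Γ.sc g a = k :=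
  Γ.pow_val_inj hy h1 (by rw [← Γ.sc_spec h y hy, hk])

theorem exists_ne_one (a : Ω) : ∃ y ∈ Γ.pt a, y ≠ 1 := by
  obtain ⟨p, hp, hpa⟩ := Γ.exists_gen a
  refine ⟨p, hpa ▸ Subgroup.mem_zpowers p, ?_⟩
  rintro rfl
  simp at hp

theorem sc_eq_one_iff {g : G} {a : Ω} (h : g • a = a) : Γ.sc g a = 1 ↔ Γ.Cent g a := by
  have hv : (1 : ZMod 11).val = 1 := rfl
  constructor
  · intro h1 y hy
    have := Γ.sc_spec h y hy
    rw [h1, hv, pow_one] at this
    exact mul_inv_eq_iff_eq_mul.1 this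
  · intro hc
    obtain ⟨y, hy, h1⟩ := Γ.exists_ne_one a
    apply Γ.sc_eq h hy h1
    rw [hv, pow_one, hc y hy]; simp

theorem sc_one (a : Ω) : Γ.sc 1 a = 1 :=
  (Γ.sc_eq_one_iff (one_smul G a)).2 (fun y _ => by simp)

theorem sc_mul {g h : G} {a : Ω} (hg : g • a = a) (hh : h • a = a) :
    Γ.sc (g * h) a = Γ.sc g a * Γ.sc h a := by
  obtain ⟨y, hy, h1⟩ := Γ.exists_ne_one a
  apply Γ.sc_eq (by rw [mul_smul, hh, hg]) hy h1
  have e1 : g * h * y * (g * h)⁻¹ = g * (h * y * h⁻¹) * g⁻¹ := by group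
  rw [e1, Γ.sc_spec hh y hy, Γ.sc_spec hg _ (Subgroup.pow_mem _ hy _), ← pow_mul,
    ← Γ.pow_val_eq hy]
  congr 2
  simp [mul_comm]

theorem sc_pow {g : G} {a : Ω} (hg : g • a = a) (n : ℕ) : Γ.sc (g ^ n) a = Γ.sc g a ^ n := by
  induction n with
  | zero => simp [Γ.sc_one]
  | succ n ih =>
    have : g ^ n • a = a := MulAction.mem_stabilizer_iff.1
      (Subgroup.pow_mem (MulAction.stabilizer G a) hg n)
    rw [pow_succ, Γ.sc_mul this hg, ih, pow_succ]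

theorem sc_inv_mul {g : G} {a : Ω} (hg : g • a = a) : Γ.sc g⁻¹ a * Γ.sc g a = 1 := by
  rw [← Γ.sc_mul (by rw [inv_smul_eq_iff, hg]) hg, inv_mul_cancel, Γ.sc_one]

theorem sc_ne_zero {g : G} {a : Ω} (hg : g • a = a) : Γ.sc g a ≠ 0 := by
  intro h
  have := Γ.sc_inv_mul hg
  rw [h, mul_zero] at this
  exact absurd this (by decide)

theorem sc_pow_ten {g : G} {a : Ω} (hg : g • a = a) : Γ.sc g a ^ 10 = 1 := by
  have := Γ.sc_ne_zero hg
  revert this
  generalize Γ.sc g a = k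
  revert k
  decide

theorem sc_conj {g : G} {a : Ω} (hg : g • a = a) (h : G) :
    Γ.sc (h * g * h⁻¹) (h • a) = Γ.sc g a := by
  obtain ⟨y, hy, h1⟩ := Γ.exists_ne_one a
  apply Γ.sc_eq (y := h * y * h⁻¹) (by simp [mul_smul, hg]) (Γ.conj_mem hy)
    (by intro h2; apply h1; simpa using h2)
  have e1 : h * g * h⁻¹ * (h * y * h⁻¹) * (h * g * h⁻¹)⁻¹ = h * (g * y * g⁻¹) * h⁻¹ := by group
  rw [e1, Γ.sc_spec hg y hy, conj_pow]

theorem sc_pow_eq_one {g : G} {a : Ω} (hg : g • a = a) {n : ℕ} (hn : g ^ n = 1) :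
    Γ.sc g a ^ n = 1 := by
  rw [← Γ.sc_pow hg, hn, Γ.sc_one]

variable {Γ} in
theorem Cent.conj {g : G} {a : Ω} (hg : Γ.Cent g a) (h : G) : Γ.Cent (h * g * h⁻¹) (h • a) := by
  rw [← Γ.sc_eq_one_iff (by simp [mul_smul, hg.smul_eq]), Γ.sc_conj hg.smul_eq,
    Γ.sc_eq_one_iff hg.smul_eq]
  exact hg

theorem cent_of_le {H : Subgroup G} {c : G} (hc : c ∈ centralizer (H : Set G)) {a : Ω}
    (ha : Γ.pt a ≤ H) : Γ.Cent c a :=
  fun y hy => (Subgroup.mem_centralizer_iff.1 hc y (ha hy)).symm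

theorem cent_sup {c : G} {a b : Ω} (ha : Γ.Cent c a) (hb : Γ.Cent c b) :
    c ∈ centralizer ((Γ.pt a ⊔ Γ.pt b : Subgroup G) : Set G) := by
  have : Γ.pt a ⊔ Γ.pt b ≤ centralizer ({c} : Set G) := by
    rw [sup_le_iff]
    exact ⟨fun y hy => Subgroup.mem_centralizer_singleton_iff.2 (ha y hy).symm,
      fun y hy => Subgroup.mem_centralizer_singleton_iff.2 (hb y hy).symm⟩
  rw [Subgroup.mem_centralizer_iff]
  intro y hy
  exact Subgroup.mem_centralizer_singleton_iff.1 (this hy)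

/-- An element of the normaliser of `H` permutes the points inside `H`. -/
theorem smul_le_of_mem_normalizer {H : Subgroup G} {g : G} (hg : g ∈ normalizer (H : Set G))
    {a : Ω} (ha : Γ.pt a ≤ H) : Γ.pt (g • a) ≤ H := by
  intro y hy
  rw [Γ.mem_smul] at hy
  exact (Subgroup.mem_normalizer_iff''.1 hg y).2 (ha hy)

theorem smul_le_of_mem {H : Subgroup G} {g : G} (hg : g ∈ H) {a : Ω} (ha : Γ.pt a ≤ H) :
    Γ.pt (g • a) ≤ H :=
  Γ.smul_le_of_mem_normalizer (Subgroup.le_normalizer hg) ha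

theorem map_sup_pt (g : G) (a b : Ω) :
    (Γ.pt a ⊔ Γ.pt b).map (MulAut.conj g).toMonoidHom = Γ.pt (g • a) ⊔ Γ.pt (g • b) := by
  rw [Subgroup.map_sup, Γ.pt_smul, Γ.pt_smul]

/-- An element stabilising the pair `{a, b}` normalises the subgroup they generate. -/
theorem mem_normalizer_sup {g : G} {a b : Ω}
    (h : (g • a = a ∧ g • b = b) ∨ (g • a = b ∧ g • b = a)) :
    g ∈ normalizer ((Γ.pt a ⊔ Γ.pt b : Subgroup G) : Set G) := by
  have key : (Γ.pt a ⊔ Γ.pt b).map (MulAut.conj g).toMonoidHom = Γ.pt a ⊔ Γ.pt b := by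
    rw [Γ.map_sup_pt]
    rcases h with ⟨h1, h2⟩ | ⟨h1, h2⟩
    · rw [h1, h2]
    · rw [h1, h2, sup_comm]
  rw [Subgroup.mem_normalizer_iff]
  intro y
  constructor
  · intro hy
    rw [← key]; exact ⟨y, hy, by simp⟩
  · intro hy
    rw [← key] at hy
    obtain ⟨z, hz, hzy⟩ := hy
    have : z = y := by simpa using hzy
    exact this ▸ hz

end Geo

theorem LT.of_equiv {H K : Type*} [Group H] [Group K] (h : LT H) (e : H ≃* K) : LT K := by
  obtain ⟨h1, h2, h3⟩ := h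
  refine ⟨by rw [← Nat.card_congr e.toEquiv, h1], e.symm.isSimpleGroup, fun x => ?_⟩
  have := h3 (e.symm x)
  rwa [MulEquiv.orderOf_eq] at this

theorem JT.of_equiv {H K : Type*} [Group H] [Group K] (h : JT H) (e : H ≃* K) : JT K := by
  obtain ⟨h1, h2, h3⟩ := h
  refine ⟨by rw [← Nat.card_congr e.toEquiv, h1], e.symm.isSimpleGroup, ?_⟩
  rw [← h3]
  ext n
  constructor
  · rintro ⟨x, rfl⟩; exact ⟨e.symm x, by rw [MulEquiv.orderOf_eq]⟩
  · rintro ⟨x, rfl⟩; exact ⟨e x, by rw [MulEquiv.orderOf_eq]⟩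

theorem LT.conj {L : Subgroup G} (h : LT ↥L) (g : G) : LT ↥(L.map (MulAut.conj g).toMonoidHom) :=
  h.of_equiv (L.equivMapOfInjective _ (MulAut.conj g).injective)

theorem JT.conj {J : Subgroup G} (h : JT ↥J) (g : G) : JT ↥(J.map (MulAut.conj g).toMonoidHom) :=
  h.of_equiv (J.equivMapOfInjective _ (MulAut.conj g).injective)

theorem LT.orderOf_mem {L : Subgroup G} (h : LT ↥L) {x : G} (hx : x ∈ L) :
    orderOf x ∈ ({1, 2, 3, 5, 6, 11} : Set ℕ) := by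
  have := h.2.2 ⟨x, hx⟩
  rwa [← Subgroup.orderOf_coe] at this

theorem JT.orderOf_mem {J : Subgroup G} (h : JT ↥J) {x : G} (hx : x ∈ J) :
    orderOf x ∈ ({1, 2, 3, 5, 6, 7, 10, 11, 15, 19} : Set ℕ) := by
  rw [← h.2.2]
  exact ⟨⟨x, hx⟩, by rw [← Subgroup.orderOf_coe]⟩

end Cfsg.Agent.F11
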