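import Cfsg.Agent.F11.Defs

/-! Two more definitions for S3403. -/

set_option autoImplicit false

namespace Cfsg.Agent.F11

open Subgroup

variable {G Ω : Type*} [Group G] [MulAction G Ω]

/-- `g ∈ L · C(L)`. -/
def Inner (L : Subgroup G) (g : G) : Prop := ∃ l ∈ L, ∃ c ∈ centralizer (L : Set G), g = l * c

/-- Involutions of type II: those centralising some point. -/
def Geo.T2 (Γ : Geo G Ω) (t : G) : Prop := orderOf t = 2 ∧ ∃ a, Γ.Cent t a

end Cfsg.Agent.F11
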