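import Cfsg.Agent.F11.Util

/-! Local structure of a simple group of order 660 with element orders 1, 2, 3, 5, 6, 11. -/

set_option autoImplicit false

namespace Cfsg.Agent.F11

open Subgroup Cfsg.Agent.Local U
open scoped Pointwise

variable {G : Type*} [Group G] [Finite G]

namespace LP

theorem not_dvd {L : Subgroup G} (hL : LT ↥L) {x : G} (hx : x ∈ L) {q n : ℕ} (hq : q.Prime)
    (hn : orderOf x = n) (hc : q.Coprime n) (hs : q * n ∉ ({1, 2, 3, 5, 6, 11} : Set ℕ)) :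
    ¬ q ∣ Nat.card ↥(L ⊓ centralizer {x}) := fun hd => by
  obtain ⟨g, hg, ho⟩ := ord_mul hx hq (hn ▸ hc) hd
  exact hs (hn ▸ ho ▸ hL.orderOf_mem hg)

theorem dvd660 {L H : Subgroup G} (hL : LT ↥L) (h : H ≤ L) : Nat.card H ∣ 660 :=
  hL.1 ▸ card_dvd_of_le h

theorem ord_dvd {L : Subgroup G} {x : G} (hx : x ∈ L) :
    orderOf x ∣ Nat.card ↥(L ⊓ centralizer {x}) :=
  orderOf_dvd_card_of_mem ⟨hx, mem_centralizer_singleton_iff.2 rfl⟩

theorem cent_card11 {L : Subgroup G} (hL : LT ↥L) {x : G} (hx : x ∈ L) (h : orderOf x = 11) :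
    Nat.card ↥(L ⊓ centralizer {x}) = 11 := by
  have h1 := dvd660 hL (inf_le_left : L ⊓ centralizer {x} ≤ L)
  have h2 := not_dvd hL hx (q := 2) (by norm_num) h (by norm_num) (by simp)
  have h3 := not_dvd hL hx (q := 3) (by norm_num) h (by norm_num) (by simp)
  have h5 := not_dvd hL hx (q := 5) (by norm_num) h (by norm_num) (by simp)
  have h6 := h ▸ ord_dvd hx
  have := Nat.le_of_dvd (by norm_num) h1
  generalize Nat.card ↥(L ⊓ centralizer {x}) = n at *
  obtain ⟨k, rfl⟩ := h6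
  have : k ≤ 60 := by omega
  interval_cases k <;> omega

theorem cent_card5 {L : Subgroup G} (hL : LT ↥L) {x : G} (hx : x ∈ L) (h : orderOf x = 5) :
    Nat.card ↥(L ⊓ centralizer {x}) = 5 := by
  have h1 := dvd660 hL (inf_le_left : L ⊓ centralizer {x} ≤ L)
  have h2 := not_dvd hL hx (q := 2) (by norm_num) h (by norm_num) (by simp)
  have h3 := not_dvd hL hx (q := 3) (by norm_num) h (by norm_num) (by simp)
  have h5 := not_dvd hL hx (q := 11) (by norm_num) h (by norm_num) (by simp)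
  have h6 := h ▸ ord_dvd hx
  have := Nat.le_of_dvd (by norm_num) h1
  generalize Nat.card ↥(L ⊓ centralizer {x}) = n at *
  obtain ⟨k, rfl⟩ := h6
  have : k ≤ 132 := by omega
  interval_cases k <;> omega

theorem syl {L P : Subgroup G} (hL : LT ↥L) (hPL : P ≤ L) {p k : ℕ} [Fact p.Prime]
    (hP : Nat.card P = p ^ k) (h1 : p ^ k ∣ 660) (h2 : ¬ p ∣ 660 / p ^ k) : IsSylowIn p P L :=
  syl_of_card hPL hP (by rw [hL.1, Nat.mul_div_cancel' h1]) h2

theorem gen {P : Subgroup G} {p : ℕ} (hp : p.Prime) (hP : Nat.card P = p) :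
    ∃ x, orderOf x = p ∧ zpowers x = P := by
  obtain ⟨x, hx, ho⟩ := exists_mem_orderOf_eq_of_dvd_card hp (hP ▸ dvd_rfl : p ∣ Nat.card P)
  exact ⟨x, ho, eq_of_le_of_card_ge (zpowers_le.2 hx) (by rw [Nat.card_zpowers, ho, hP])⟩

theorem sq_four {L V : Subgroup G} (hL : LT ↥L) (hV : Nat.card V = 4) (hVL : V ≤ L) :
    ∀ v ∈ V, v ^ 2 = 1 := by
  intro v hv
  have h1 := hL.orderOf_mem (hVL hv)
  have h2 := orderOf_dvd_card_of_mem hv
  rw [hV] at h2
  apply orderOf_dvd_iff_pow_eq_one.1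
  simp only [Set.mem_insert_iff, Set.mem_singleton_iff] at h1
  rcases h1 with h | h | h | h | h | h <;> rw [h] at h2 ⊢ <;> omega

theorem comm_of_sq {V : Subgroup G} (h : ∀ v ∈ V, v ^ 2 = 1) {a b : G} (ha : a ∈ V) (hb : b ∈ V) :
    a * b = b * a := by
  have h1 : ∀ v ∈ V, v⁻¹ = v := fun v hv => inv_eq_of_mul_eq_one_right (by rw [← pow_two, h v hv])
  rw [← h1 _ (mul_mem ha hb), mul_inv_rev, h1 a ha, h1 b hb]

theorem card_mulAut_four {V : Subgroup G} (hV : Nat.card V = 4) : Nat.card (MulAut V) ∣ 24 := by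
  have := card_dvd_of_injective (MulAut.toPerm V) (fun a b h => MulEquiv.toEquiv_injective h)
  rwa [Nat.card_perm, hV] at this

theorem fix_mod_conj {p : ℕ} (hp : p.Prime) {g : G} {k : ℕ} (hg : g ^ p ^ k = 1) {s : Set G}
    (hinv : ∀ a ∈ s, g * a * g⁻¹ ∈ s) :
    s.ncard % p = {a | a ∈ s ∧ g * a * g⁻¹ = a}.ncard % p :=
  haveI : Finite (ConjAct G) := ‹Finite G›
  fix_mod_elt (G := ConjAct G) hp (g := ConjAct.toConjAct g) (k := k)
    (by rw [← map_pow, hg, map_one]) (Set.toFinite s) hinv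

end LP

open LP

theorem LT.cent11 {L P : Subgroup G} (hL : LT ↥L) (hP : Nat.card P = 11) (hPL : P ≤ L) {g : G}
    (hg : g ∈ L) (hc : g ∈ centralizer (P : Set G)) : g ∈ P := by
  obtain ⟨x, ho, rfl⟩ := gen (by norm_num) hP
  have hx : x ∈ L := hPL (mem_zpowers x)
  have : zpowers x = L ⊓ centralizer {x} :=
    eq_of_le_of_card_ge (zpowers_le.2 ⟨hx, mem_centralizer_singleton_iff.2 rfl⟩)
      (by rw [cent_card11 hL hx ho, hP])
  rw [this]
  exact ⟨hg, by rwa [cent_zpowers] at hc⟩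

theorem LT.norm11 {L P : Subgroup G} (hL : LT ↥L) (hP : Nat.card P = 11) (hPL : P ≤ L) :
    Nat.card ↥(L ⊓ normalizer (P : Set G)) = 55 := by
  haveI : Fact (Nat.Prime 11) := ⟨by norm_num⟩
  obtain ⟨k, h1, h2⟩ := sylow_mod (syl (p := 11) (k := 1) hL hPL hP (by norm_num) (by norm_num))
  obtain ⟨j, h3, h4⟩ := nc_prime L P (by norm_num) hP
  obtain ⟨x, ho, rfl⟩ := gen (by norm_num) hP
  rw [cent_zpowers, cent_card11 hL (hPL (mem_zpowers x)) ho] at h3
  rw [hL.1, h3] at h1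
  rw [h3]
  have : j ≤ 10 := Nat.le_of_dvd (by norm_num) h4
  interval_cases j <;> omega

theorem LT.conj11 {L P Q : Subgroup G} (hL : LT ↥L) (hP : Nat.card P = 11) (hPL : P ≤ L)
    (hQ : Nat.card Q = 11) (hQL : Q ≤ L) :
    ∃ g ∈ L, P.map (MulAut.conj g).toMonoidHom = Q := by
  haveI : Fact (Nat.Prime 11) := ⟨by norm_num⟩
  exact (syl (p := 11) (k := 1) hL hPL hP (by norm_num) (by norm_num)).exists_conj
    (syl (p := 11) (k := 1) hL hQL hQ (by norm_num) (by norm_num))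

theorem LT.cent5 {L : Subgroup G} (hL : LT ↥L) {x g : G} (hx : x ∈ L) (hx5 : orderOf x = 5)
    (hg : g ∈ L) (hc : Commute g x) : g ∈ zpowers x := by
  have : zpowers x = L ⊓ centralizer {x} :=
    eq_of_le_of_card_ge (zpowers_le.2 ⟨hx, mem_centralizer_singleton_iff.2 rfl⟩)
      (by rw [cent_card5 hL hx hx5, Nat.card_zpowers, hx5])
  rw [this]
  exact ⟨hg, mem_centralizer_singleton_iff.2 hc⟩

theorem LT.norm5 {L : Subgroup G} (hL : LT ↥L) {x : G} (hx : x ∈ L) (hx5 : orderOf x = 5) :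
    Nat.card ↥(L ⊓ normalizer (zpowers x : Set G)) = 10 := by
  haveI : Fact (Nat.Prime 5) := ⟨by norm_num⟩
  have hP : Nat.card (zpowers x) = 5 := by rw [Nat.card_zpowers, hx5]
  obtain ⟨k, h1, h2⟩ := sylow_mod (syl (p := 5) (k := 1) hL (zpowers_le.2 hx) hP (by norm_num)
    (by norm_num))
  obtain ⟨j, h3, h4⟩ := nc_prime L (zpowers x) (by norm_num) hP
  rw [cent_zpowers, cent_card5 hL hx hx5] at h3
  rw [hL.1, h3] at h1
  rw [h3]
  have : j ≤ 4 := Nat.le_of_dvd (by norm_num) h4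
  interval_cases j <;> omega

theorem LT.exists_four {L : Subgroup G} (hL : LT ↥L) {t : G} (ht : t ∈ L) (ht2 : orderOf t = 2) :
    ∃ V : Subgroup G, V ≤ L ∧ Nat.card V = 4 ∧ t ∈ V := by
  haveI : Fact (Nat.Prime 2) := ⟨by norm_num⟩
  obtain ⟨V, hV, h1⟩ := exists_isSylowIn_ge (p := 2) (Q := zpowers t) (N := L)
    (IsPGroup.of_card (n := 1) (by rw [Nat.card_zpowers, ht2]; norm_num)) (zpowers_le.2 ht)
  exact ⟨V, hV.le, syl_card (k := 2) (m := 165) hV (by rw [hL.1]; norm_num) (by norm_num),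
    h1 (mem_zpowers t)⟩

theorem LT.conj4 {L V W : Subgroup G} (hL : LT ↥L) (hV : Nat.card V = 4) (hVL : V ≤ L)
    (hW : Nat.card W = 4) (hWL : W ≤ L) :
    ∃ g ∈ L, V.map (MulAut.conj g).toMonoidHom = W := by
  haveI : Fact (Nat.Prime 2) := ⟨by norm_num⟩
  exact (syl (p := 2) (k := 2) hL hVL hV (by norm_num) (by norm_num)).exists_conj
    (syl (p := 2) (k := 2) hL hWL hW (by norm_num) (by norm_num))

theorem LT.four {L V : Subgroup G} (hL : LT ↥L) (hV : Nat.card V = 4) (hVL : V ≤ L) :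
    (∀ v ∈ V, v ^ 2 = 1) ∧ L ⊓ centralizer (V : Set G) = V ∧
      Nat.card ↥(L ⊓ normalizer (V : Set G)) = 12 ∧
      ∃ y ∈ L, orderOf y = 3 ∧ y ∈ normalizer (V : Set G) ∧ ∀ v ∈ V, Commute y v → v = 1 := by
  haveI : Fact (Nat.Prime 2) := ⟨by norm_num⟩
  have hsq := sq_four hL hV hVL
  have hS := syl (p := 2) (k := 2) hL hVL hV (by norm_num) (by norm_num)
  have hVC : V ≤ L ⊓ centralizer (V : Set G) := fun v hv =>
    ⟨hVL hv, mem_centralizer_iff.2 fun w hw => comm_of_sq hsq hw hv⟩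
  obtain ⟨t, ht, ht2⟩ := exists_mem_orderOf_eq_of_dvd_card (H := V) (p := 2) (by norm_num)
    (by rw [hV]; norm_num)
  have hCt : L ⊓ centralizer (V : Set G) ≤ L ⊓ centralizer {t} :=
    inf_le_inf_left _ (centralizer_le (by simpa using ht))
  have h5 := not_dvd hL (hVL ht) (q := 5) (by norm_num) ht2 (by norm_num) (by simp)
  have h11 := not_dvd hL (hVL ht) (q := 11) (by norm_num) ht2 (by norm_num) (by simp)
  have h5' : ¬ 5 ∣ Nat.card ↥(L ⊓ centralizer (V : Set G)) := fun h =>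
    h5 (h.trans (card_dvd_of_le hCt))
  have h11' : ¬ 11 ∣ Nat.card ↥(L ⊓ centralizer (V : Set G)) := fun h =>
    h11 (h.trans (card_dvd_of_le hCt))
  have h4 : 4 ∣ Nat.card ↥(L ⊓ centralizer (V : Set G)) := hV ▸ card_dvd_of_le hVC
  obtain ⟨j, h1, h2⟩ := nc_dvd L V
  replace h2 := h2.trans (card_mulAut_four hV)
  have h3 := dvd660 hL (inf_le_left : L ⊓ normalizer (V : Set G) ≤ L)
  obtain ⟨g, hg, hgn, hgc⟩ := burn hL.2.1 hS (by omega) (by rw [hV, hL.1]; omega)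
  have hj : j ≠ 1 := by
    rintro rfl
    have := eq_of_le_of_card_ge (inf_le_inf_left L (centralizer_le_normalizer (V : Set G)))
      (by rw [h1, one_mul])
    exact hgc (show g ∈ L ⊓ centralizer (V : Set G) from this ▸ ⟨hg, hgn⟩).2
  rw [h1] at h3
  have hc : Nat.card ↥(L ⊓ centralizer (V : Set G)) = 4 ∧ j = 3 := by
    generalize Nat.card ↥(L ⊓ centralizer (V : Set G)) = n at *
    obtain ⟨k, rfl⟩ := h4
    have h7 : k ≤ 165 := by
      have := Nat.le_of_dvd (by norm_num) ((Dvd.intro_left _ rfl).trans h3); omega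
    have h8 : k ∣ 165 := by
      have := (Dvd.intro_left _ rfl).trans h3
      exact Nat.dvd_of_mul_dvd_mul_left (by norm_num : 0 < 4) this
    have : j ≤ 24 := Nat.le_of_dvd (by norm_num) h2
    have hk : k = 1 ∨ k = 3 := by interval_cases k <;> omega
    rcases hk with rfl | rfl <;> interval_cases j <;> omega
  have hCV : L ⊓ centralizer (V : Set G) = V :=
    (eq_of_le_of_card_ge hVC (by rw [hc.1, hV])).symm
  have hN : Nat.card ↥(L ⊓ normalizer (V : Set G)) = 12 := by rw [h1, hc.1, hc.2]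
  refine ⟨hsq, hCV, hN, ?_⟩
  obtain ⟨y, hy, hy3⟩ := exists_mem_orderOf_eq_of_dvd_card (H := L ⊓ normalizer (V : Set G))
    (p := 3) (by norm_num) (by rw [hN]; norm_num)
  refine ⟨y, hy.1, hy3, hy.2, fun v hv hyv => ?_⟩
  by_contra hv1
  have hm := fix_mod_conj (p := 3) (k := 1) (by norm_num) (g := y)
    (by rw [pow_one, ← hy3, pow_orderOf_eq_one]) (s := (V : Set G))
    (fun a ha => conj_mem_of_mem_normalizer hy.2 ha)
  have he : {a | a ∈ (V : Set G) ∧ y * a * y⁻¹ = a} = ((V ⊓ centralizer {y} : Subgroup G) : Set G) := by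
    ext a
    simp only [Set.mem_ofPred_eq, SetLike.mem_coe, mem_inf, mem_centralizer_singleton_iff]
    refine and_congr_right fun _ => ?_
    rw [mul_inv_eq_iff_eq_mul, eq_comm]
  rw [he, ncard_coe, ncard_coe, hV] at hm
  have h6 : Nat.card ↥(V ⊓ centralizer {y}) ∣ 4 := hV ▸ card_dvd_of_le inf_le_left
  have h7 : orderOf v ∣ Nat.card ↥(V ⊓ centralizer {y}) :=
    orderOf_dvd_card_of_mem ⟨hv, mem_centralizer_singleton_iff.2 hyv.eq.symm⟩
  rw [orderOf_eq_prime (hsq v hv) hv1] at h7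
  have h8 : Nat.card ↥(V ⊓ centralizer {y}) = 4 := by
    have := Nat.le_of_dvd (by norm_num) h6
    generalize Nat.card ↥(V ⊓ centralizer {y}) = n at *
    interval_cases n <;> omega
  have h9 : V ⊓ centralizer {y} = V := eq_of_le_of_card_ge inf_le_left (by rw [h8, hV])
  have h10 : y ∈ V := by
    rw [← hCV]
    refine ⟨hy.1, mem_centralizer_iff.2 fun w hw => ?_⟩
    rw [← h9] at hw
    exact mem_centralizer_singleton_iff.1 hw.2
  have := orderOf_dvd_card_of_mem h10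
  rw [hy3, hV] at this
  omega

theorem LT.inv_conj {L : Subgroup G} (hL : LT ↥L) {s t : G} (hs : s ∈ L) (ht : t ∈ L)
    (hs2 : orderOf s = 2) (ht2 : orderOf t = 2) : ∃ g ∈ L, g * s * g⁻¹ = t := by
  obtain ⟨V, hVL, hV, hsV⟩ := hL.exists_four hs hs2
  obtain ⟨W, hWL, hW, htW⟩ := hL.exists_four ht ht2
  obtain ⟨g, hg, hgV⟩ := hL.conj4 hW hWL hV hVL
  obtain ⟨hsq, -, -, y, hyL, hy3, hyn, hyf⟩ := hL.four hV hVL
  have ht' : g * t * g⁻¹ ∈ V := by rw [← hgV]; exact ⟨t, htW, rfl⟩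
  have h1 := card_class (zpowers y) s
  have h2 : zpowers y ⊓ centralizer {s} = ⊥ := by
    haveI : Fact (Nat.Prime 3) := ⟨by norm_num⟩
    haveI : Fact (Nat.card (zpowers y)).Prime := ⟨by rw [Nat.card_zpowers, hy3]; norm_num⟩
    rcases (eq_bot_or_eq_top_of_prime_card ((centralizer {s}).subgroupOf (zpowers y))) with h | h
    · rw [subgroupOf_eq_bot] at h; rw [inf_comm]; exact h.eq_bot
    · rw [subgroupOf_eq_top] at h
      have := mem_centralizer_singleton_iff.1 (h (mem_zpowers y))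
      exact absurd (hyf s hsV this) (ne_one_of_ord hs2 (by norm_num))
  rw [h2, card_bot, mul_one, Nat.card_zpowers, hy3] at h1
  have h3 : {z | ∃ h ∈ zpowers y, h * s * h⁻¹ = z} = (V : Set G) \ {1} := by
    refine Set.eq_of_subset_of_ncard_le ?_ ?_ (Set.toFinite _)
    · rintro _ ⟨h, hh, rfl⟩
      refine ⟨conj_mem_of_mem_normalizer (zpowers_le.2 hyn hh) hsV, ?_⟩
      simpa using ne_one_of_ord hs2 (by norm_num)
    · rw [Set.ncard_sdiff_singleton_of_mem (one_mem V), ncard_coe, hV, ← h1]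
  have h4 : g * t * g⁻¹ ∈ (V : Set G) \ {1} :=
    ⟨ht', by simpa using ne_one_of_ord ht2 (by norm_num)⟩
  rw [← h3] at h4
  obtain ⟨h, hh, e⟩ := h4
  refine ⟨g⁻¹ * h, mul_mem (inv_mem hg) (zpowers_le.2 hyL hh), ?_⟩
  rw [mul_inv_rev, inv_inv]
  calc g⁻¹ * h * s * (h⁻¹ * g) = g⁻¹ * (h * s * h⁻¹) * g := by group
    _ = t := by rw [e]; group

theorem LT.three {L : Subgroup G} (hL : LT ↥L) {y : G} (hy : y ∈ L) (hy3 : orderOf y = 3) :
    Nat.card ↥(L ⊓ centralizer {y}) = 6 ∧ ∃ τ ∈ L, ∃ σ ∈ L, orderOf τ = 2 ∧ orderOf σ = 2 ∧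
      Commute τ y ∧ Commute τ σ ∧ σ * y * σ⁻¹ = y⁻¹ := by
  haveI : Fact (Nat.Prime 2) := ⟨by norm_num⟩
  haveI : Fact (Nat.Prime 3) := ⟨by norm_num⟩
  classical
  have hP : Nat.card (zpowers y) = 3 := by rw [Nat.card_zpowers, hy3]
  have hS := syl (p := 3) (k := 1) hL (zpowers_le.2 hy) hP (by norm_num) (by norm_num)
  obtain ⟨k, h1, h2⟩ := sylow_mod hS
  obtain ⟨j, h3, h4⟩ := nc_prime L (zpowers y) (by norm_num) hP
  obtain ⟨g, hg, hgn, hgc⟩ := burn hL.2.1 hS (by omega) (by rw [hP, hL.1]; omega)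
  have hj : j ≠ 1 := by
    rintro rfl
    have := eq_of_le_of_card_ge
      (inf_le_inf_left L (centralizer_le_normalizer (zpowers y : Set G))) (by rw [h3, one_mul])
    exact hgc (show g ∈ L ⊓ centralizer (zpowers y : Set G) from this ▸ ⟨hg, hgn⟩).2
  have h5 := not_dvd hL hy (q := 5) (by norm_num) hy3 (by norm_num) (by simp)
  have h11 := not_dvd hL hy (q := 11) (by norm_num) hy3 (by norm_num) (by simp)
  have h6 := hy3 ▸ ord_dvd hy
  rw [cent_zpowers] at h3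
  have hj2 : j = 2 := by
    have := Nat.le_of_dvd (by norm_num) h4
    interval_cases j <;> omega
  subst hj2
  rw [hL.1, h3] at h1
  have hC : Nat.card ↥(L ⊓ centralizer {y}) = 6 := by
    generalize Nat.card ↥(L ⊓ centralizer {y}) = n at *
    obtain ⟨m, rfl⟩ := h6
    have h7 : m ∣ 110 := ⟨k, by nlinarith⟩
    have h8 := Nat.le_of_dvd (by norm_num) h7
    interval_cases m <;> omega
  rw [hC] at h3
  refine ⟨hC, ?_⟩
  obtain ⟨τ, hτ, hτ2⟩ := exists_mem_orderOf_eq_of_dvd_card (H := L ⊓ centralizer {y}) (p := 2)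
    (by norm_num) (by rw [hC]; norm_num)
  have hτN : τ ∈ L ⊓ normalizer (zpowers y : Set G) :=
    ⟨hτ.1, centralizer_le_normalizer _ (by rw [cent_zpowers]; exact hτ.2)⟩
  obtain ⟨W, hW, hτW⟩ := exists_isSylowIn_ge (p := 2) (Q := zpowers τ)
    (IsPGroup.of_card (n := 1) (by rw [Nat.card_zpowers, hτ2]; norm_num)) (zpowers_le.2 hτN)
  have hW4 : Nat.card W = 4 := syl_card (k := 2) (m := 3) hW (by rw [h3]; norm_num) (by norm_num)
  have hWL : W ≤ L := hW.le.trans inf_le_left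
  have hsq := sq_four hL hW4 hWL
  have : ¬ W ≤ L ⊓ centralizer {y} := fun h => by
    have := card_dvd_of_le h
    rw [hW4, hC] at this
    omega
  obtain ⟨σ, hσW, hσ⟩ := SetLike.not_le_iff_exists.1 this
  have hσc : ¬ σ * y * σ⁻¹ = y := fun h =>
    hσ ⟨hWL hσW, mem_centralizer_singleton_iff.2 (mul_inv_eq_iff_eq_mul.1 h)⟩
  refine ⟨τ, hτ.1, σ, hWL hσW, hτ2, orderOf_eq_prime (hsq σ hσW) (by rintro rfl; simp at hσc),
    mem_centralizer_singleton_iff.1 hτ.2, comm_of_sq hsq (hτW (mem_zpowers τ)) hσW, ?_⟩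
  have h7 : σ * y * σ⁻¹ ∈ zpowers y := conj_mem_of_mem_normalizer (hW.le hσW).2 (mem_zpowers y)
  rw [mem_zpowers_iff_mem_range_orderOf, hy3] at h7
  simp only [Finset.mem_image, Finset.mem_range] at h7
  obtain ⟨i, hi, e⟩ := h7
  have hy1 : y ≠ 1 := ne_one_of_ord hy3 (by norm_num)
  interval_cases i
  · exfalso; apply hy1; simpa using e.symm
  · exact absurd (by simpa using e.symm) hσc
  · rw [← e]; apply eq_inv_of_mul_eq_one_left; rw [← pow_succ]; exact orderOf_dvd_iff_pow_eq_one.1 (by rw [hy3])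

theorem LT.cent2 {L : Subgroup G} (hL : LT ↥L) {t : G} (ht : t ∈ L) (ht2 : orderOf t = 2) :
    Nat.card ↥(L ⊓ centralizer {t}) = 12 := by
  obtain ⟨y, hy, hy3⟩ := exists_mem_orderOf_eq_of_dvd_card (H := L) (p := 3) (by norm_num)
    (by rw [hL.1]; norm_num)
  obtain ⟨-, τ, hτ, -, -, hτ2, -, hτy, -, -⟩ := hL.three hy hy3
  obtain ⟨g, hg, e⟩ := hL.inv_conj hτ ht hτ2 ht2
  have h3 : 3 ∣ Nat.card ↥(L ⊓ centralizer {t}) := by
    rw [← hy3, ← orderOf_conj g y]
    refine orderOf_dvd_card_of_mem (mem_inf.2 ⟨mul_mem (mul_mem hg hy) (inv_mem hg), ?_⟩)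
    rw [← e]
    exact mem_centralizer_singleton_iff.2 (by rw [conj_mul, conj_mul, hτy.eq])
  obtain ⟨V, hVL, hV, htV⟩ := hL.exists_four ht ht2
  have h4 : 4 ∣ Nat.card ↥(L ⊓ centralizer {t}) := by
    rw [← hV]
    exact card_dvd_of_le fun v hv =>
      ⟨hVL hv, mem_centralizer_singleton_iff.2 (comm_of_sq (sq_four hL hV hVL) hv htV)⟩
  have h5 := not_dvd hL ht (q := 5) (by norm_num) ht2 (by norm_num) (by simp)
  have h11 := not_dvd hL ht (q := 11) (by norm_num) ht2 (by norm_num) (by simp)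
  have h1 := dvd660 hL (inf_le_left : L ⊓ centralizer {t} ≤ L)
  generalize Nat.card ↥(L ⊓ centralizer {t}) = n at *
  obtain ⟨k, rfl⟩ := h4
  have h8 : k ∣ 165 := Nat.dvd_of_mul_dvd_mul_left (by norm_num : 0 < 4) h1
  have := Nat.le_of_dvd (by norm_num) h8
  interval_cases k <;> omega

end Cfsg.Agent.F11
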