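import Cfsg.Agent.F11.Defs2
import Cfsg.Agent.Local.Sub

/-! General Sylow utilities for S3403. -/

set_option autoImplicit false

namespace Cfsg.Agent.F11.U

open Subgroup Cfsg.Agent.Local
open scoped Pointwise

variable {G : Type*} [Group G] [Finite G]

theorem syl_of_card {p : ℕ} [Fact p.Prime] {P N : Subgroup G} (hle : P ≤ N) {k m : ℕ}
    (hP : Nat.card P = p ^ k) (hN : Nat.card N = p ^ k * m) (hm : ¬ p ∣ m) : IsSylowIn p P N := by
  refine ⟨hle, IsPGroup.of_card hP, ?_⟩
  have := card_mul_relIndex hle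
  rw [hP, hN] at this
  rwa [Nat.eq_of_mul_eq_mul_left (pow_pos (Fact.out : p.Prime).pos k) this]

theorem syl_card {p : ℕ} [Fact p.Prime] {P N : Subgroup G} (h : IsSylowIn p P N) {k m : ℕ}
    (hN : Nat.card N = p ^ k * m) (hm : ¬ p ∣ m) : Nat.card P = p ^ k := by
  have hp : p.Prime := Fact.out
  have hm0 : m ≠ 0 := by rintro rfl; exact hm (dvd_zero _)
  rw [h.card_eq, hN, Nat.factorization_mul (pow_ne_zero _ hp.ne_zero) hm0]
  simp [hp.factorization_pow, Nat.factorization_eq_zero_of_not_dvd hm]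

theorem sylow_mod {p : ℕ} [Fact p.Prime] {P N : Subgroup G} (h : IsSylowIn p P N) :
    ∃ k, Nat.card N = k * Nat.card ↥(N ⊓ normalizer (P : Set G)) ∧ k % p = 1 % p := by
  refine ⟨(normalizer (P : Set G)).relIndex N, ?_, ?_⟩
  · rw [inf_comm, mul_comm, card_inf_mul_relIndex]
  · have h4 := card_sylow_modEq_one p N
    rw [Sylow.card_eq_index_normalizer h.toSylow] at h4
    change (normalizer ((P.subgroupOf N : Subgroup N) : Set N)).index % p = 1 % p at h4
    rwa [← subgroupOf_normalizer_eq h.le] at h4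

theorem exists_compl {p : ℕ} [Fact p.Prime] {P D : Subgroup G} (h : IsSylowIn p P D)
    (hc : ∀ g ∈ D, g ∈ normalizer (P : Set G) → g ∈ centralizer (P : Set G)) :
    ∃ W ≤ D, D ≤ normalizer (W : Set G) ∧ Nat.card W * Nat.card P = Nat.card D := by
  have h1 : normalizer ((h.toSylow : Subgroup D) : Set D) ≤
      centralizer ((h.toSylow : Subgroup D) : Set D) :=
    fun g hg a ha => by
      rw [h.coe_toSylow, ← subgroupOf_normalizer_eq h.le] at hg
      exact Subtype.ext (hc g g.2 hg a ha)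
  refine ⟨(MonoidHom.transferSylow h.toSylow h1).ker.map D.subtype, map_subtype_le _,
    fun c hc => mem_normalizer_of_conj_mem ?_, ?_⟩
  · rintro _ ⟨u, hu, rfl⟩
    exact ⟨_, (MonoidHom.normal_ker _).conj_mem u hu ⟨c, hc⟩, rfl⟩
  · rw [card_subtype, ← (MonoidHom.ker_transferSylow_isComplement' h.toSylow h1).card_mul_card,
      ← Nat.card_congr (subgroupOfEquivOfLe h.le).toEquiv]
    rfl

omit [Finite G] in
/-- A subgroup of a simple subgroup `L` normalised by `L` is `⊥` or `L`. -/
theorem simple_cases {L W : Subgroup G} (hL : IsSimpleGroup L) (hW : W ≤ L)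
    (hn : L ≤ normalizer (W : Set G)) : W = ⊥ ∨ W = L := by
  have hN : (W.subgroupOf L).Normal := normal_subgroupOf_of_le_normalizer hn
  rcases hL.eq_bot_or_eq_top_of_normal _ hN with h | h
  · left
    rw [subgroupOf_eq_bot] at h
    exact h.eq_bot_of_le hW
  · right
    rw [subgroupOf_eq_top] at h
    exact le_antisymm hW h

/-- Burnside in a simple subgroup. -/
theorem burn {p : ℕ} [Fact p.Prime] {P L : Subgroup G} (hL : IsSimpleGroup L)
    (h : IsSylowIn p P L) (h1 : Nat.card P ≠ 1) (h2 : Nat.card P ≠ Nat.card L) :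
    ∃ g ∈ L, g ∈ normalizer (P : Set G) ∧ g ∉ centralizer (P : Set G) := by
  by_contra hcon
  push Not at hcon
  obtain ⟨W, hW, hn, hc⟩ := exists_compl h hcon
  rcases simple_cases hL hW hn with rfl | rfl
  · apply h2; simpa using hc
  · apply h1
    have : 0 < Nat.card W := Nat.card_pos
    nlinarith [Nat.card_pos (α := P)]

omit [Finite G] in
theorem nc_dvd (L P : Subgroup G) : ∃ j, Nat.card ↥(L ⊓ normalizer (P : Set G)) =
    j * Nat.card ↥(L ⊓ centralizer (P : Set G)) ∧ j ∣ Nat.card (MulAut P) := by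
  let A := L ⊓ normalizer (P : Set G)
  let f : A →* MulAut P := P.normalizerMonoidHom.comp (Subgroup.inclusion inf_le_right)
  have hk : f.ker = (centralizer (P : Set G)).subgroupOf A := by
    ext g
    rw [MonoidHom.mem_ker, MonoidHom.comp_apply, ← MonoidHom.mem_ker, normalizerMonoidHom_ker]
    rfl
  refine ⟨f.ker.index, ?_, ?_⟩
  · rw [← f.ker.index_mul_card, hk]
    congr 1
    rw [← inf_subgroupOf_right, Nat.card_congr (subgroupOfEquivOfLe inf_le_right).toEquiv]
    congr 2
    ext g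
    simp only [A, mem_inf]
    exact ⟨fun h => ⟨h.2.1, h.1⟩, fun h => ⟨h.2, h.1, centralizer_le_normalizer _ h.2⟩⟩
  · rw [index_ker]; exact card_subgroup_dvd_card _

theorem nc_prime (L P : Subgroup G) {p : ℕ} (hp : p.Prime) (hP : Nat.card P = p) :
    ∃ j, Nat.card ↥(L ⊓ normalizer (P : Set G)) =
      j * Nat.card ↥(L ⊓ centralizer (P : Set G)) ∧ j ∣ p - 1 := by
  obtain ⟨j, h1, h2⟩ := nc_dvd L P
  haveI := Fact.mk hp
  haveI : IsCyclic P := isCyclic_of_prime_card hP
  rw [IsCyclic.card_mulAut, hP, Nat.totient_prime hp] at h2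
  exact ⟨j, h1, h2⟩

omit [Finite G] in
theorem cent_zpowers (x : G) : centralizer (zpowers x : Set G) = centralizer {x} := by
  ext g
  rw [mem_centralizer_iff, mem_centralizer_singleton_iff]
  constructor
  · intro h; exact (h x (mem_zpowers x)).symm
  · rintro h _ ⟨k, rfl⟩
    exact ((show Commute g x from h).zpow_right k).eq.symm

/-- A prime dividing the order of the centraliser gives an element of product order. -/
theorem ord_mul {L : Subgroup G} {x : G} (hx : x ∈ L) {q : ℕ} (hq : q.Prime)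
    (hc : q.Coprime (orderOf x)) (hd : q ∣ Nat.card ↥(L ⊓ centralizer {x})) :
    ∃ g ∈ L, orderOf g = q * orderOf x := by
  obtain ⟨y, hy, hyq⟩ := exists_mem_orderOf_eq_of_dvd_card hq hd
  have hcm : Commute y x := mem_centralizer_singleton_iff.1 hy.2
  exact ⟨y * x, mul_mem hy.1 hx, by
    rw [hcm.orderOf_mul_eq_mul_orderOf_of_coprime (by rwa [hyq]), hyq]⟩

omit [Finite G] in
theorem ncard_coe (H : Subgroup G) : (H : Set G).ncard = Nat.card H := by
  rw [← Nat.card_coe_set_eq]; rfl

omit [Finite G] in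
theorem map_conj_eq (g : G) (H : Subgroup G) :
    H.map (MulAut.conj g).toMonoidHom = MulAut.conj g • H := rfl

omit [Finite G] in
theorem mem_map_conj {g y : G} {H : Subgroup G} :
    y ∈ H.map (MulAut.conj g).toMonoidHom ↔ g⁻¹ * y * g ∈ H := by
  constructor
  · rintro ⟨z, hz, rfl⟩; simpa [mul_assoc] using hz
  · intro h; exact ⟨_, h, by simp [mul_assoc]⟩

omit [Finite G] in
theorem orderOf_conj (g x : G) : orderOf (g * x * g⁻¹) = orderOf x :=
  (MulAut.conj g).orderOf_eq x

omit [Finite G] in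
theorem sq_of_two {t : G} (ht : orderOf t = 2) : t * t = 1 := by
  rw [← pow_two, ← ht, pow_orderOf_eq_one]

omit [Finite G] in
theorem inv_of_two {t : G} (ht : orderOf t = 2) : t⁻¹ = t :=
  inv_eq_of_mul_eq_one_right (sq_of_two ht)

omit [Finite G] in
theorem ne_one_of_ord {t : G} {n : ℕ} (ht : orderOf t = n) (hn : n ≠ 1) : t ≠ 1 := by
  rintro rfl; simp at ht; exact hn ht.symm

omit [Finite G] in
theorem two_of_sq {t : G} (h : t * t = 1) (h1 : t ≠ 1) : orderOf t = 2 :=
  orderOf_eq_prime (by rwa [pow_two]) h1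

omit [Finite G] in
/-- Orbit-stabiliser for a subgroup. -/
theorem card_orbit {Ω : Type*} [MulAction G Ω] (H : Subgroup G) (a : Ω) :
    Nat.card H = {b | ∃ h ∈ H, h • a = b}.ncard * Nat.card ↥(H ⊓ MulAction.stabilizer G a) := by
  have h1 := MulAction.index_stabilizer H a
  have h2 : MulAction.orbit H a = {b | ∃ h ∈ H, h • a = b} := by
    ext b
    constructor
    · rintro ⟨h, rfl⟩; exact ⟨h, h.2, rfl⟩
    · rintro ⟨h, hh, rfl⟩; exact ⟨⟨h, hh⟩, rfl⟩
  have h3 : MulAction.stabilizer H a = (H ⊓ MulAction.stabilizer G a).subgroupOf H := by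
    ext h
    simp only [MulAction.mem_stabilizer_iff, mem_subgroupOf, mem_inf, h.2, true_and]
    rfl
  rw [← h2, ← h1, ← (MulAction.stabilizer H a).index_mul_card, h3,
    Nat.card_congr (subgroupOfEquivOfLe inf_le_left).toEquiv]

omit [Finite G] in
/-- Orbit-stabiliser for conjugation. -/
theorem card_class (H : Subgroup G) (x : G) :
    Nat.card H = {y | ∃ h ∈ H, h * x * h⁻¹ = y}.ncard * Nat.card ↥(H ⊓ centralizer {x}) := by
  letI : MulAction G G := MulAction.compHom G (MulAut.conj : G →* MulAut G)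
  have := card_orbit H x
  have h2 : MulAction.stabilizer G x = centralizer {x} := by
    ext g
    rw [MulAction.mem_stabilizer_iff, mem_centralizer_singleton_iff]
    change g * x * g⁻¹ = x ↔ _
    exact mul_inv_eq_iff_eq_mul
  rw [h2] at this
  exact this

/-- A `p`-element acting on a finite invariant set: the fixed points have the same parity mod `p`. -/
theorem fix_mod {Ω : Type*} [MulAction G Ω] {p : ℕ} (hp : p.Prime) {H : Subgroup G}
    (hH : IsPGroup p H) {s : Set Ω} (hs : s.Finite) (hinv : ∀ h ∈ H, ∀ a ∈ s, h • a ∈ s) :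
    s.ncard % p = {a | a ∈ s ∧ ∀ h ∈ H, h • a = a}.ncard % p := by
  haveI := Fact.mk hp
  haveI : Finite s := hs
  letI : MulAction H s :=
    { smul := fun h a => ⟨(h : G) • (a : Ω), hinv h h.2 a a.2⟩
      one_smul := fun a => Subtype.ext (one_smul G (a : Ω))
      mul_smul := fun h k a => Subtype.ext (mul_smul (h : G) (k : G) (a : Ω)) }
  have h1 := hH.card_modEq_card_fixedPoints s
  rw [Nat.card_coe_set_eq] at h1
  have h2 : Nat.card (MulAction.fixedPoints H s) = {a | a ∈ s ∧ ∀ h ∈ H, h • a = a}.ncard := by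
    rw [← Nat.card_coe_set_eq]
    refine Nat.card_congr ⟨fun a => ⟨a.1.1, a.1.2, fun h hh => congrArg Subtype.val (a.2 ⟨h, hh⟩)⟩,
      fun a => ⟨⟨a.1, a.2.1⟩, fun h => Subtype.ext (a.2.2 h h.2)⟩, fun _ => rfl, fun _ => rfl⟩
  rw [h2] at h1
  exact h1

/-- The same for a single element of order a power of `p`. -/
theorem fix_mod_elt {Ω : Type*} [MulAction G Ω] {p : ℕ} (hp : p.Prime) {g : G} {k : ℕ}
    (hg : g ^ p ^ k = 1) {s : Set Ω} (hs : s.Finite) (hinv : ∀ a ∈ s, g • a ∈ s) :
    s.ncard % p = {a | a ∈ s ∧ g • a = a}.ncard % p := by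
  haveI := Fact.mk hp
  have hH : IsPGroup p (zpowers g) := by
    rintro ⟨_, j, rfl⟩
    refine ⟨k, Subtype.ext ?_⟩
    change (g ^ j) ^ p ^ k = 1
    rw [← zpow_natCast, ← zpow_mul, mul_comm, zpow_mul, zpow_natCast, hg, one_zpow]
  have hpw : ∀ n : ℕ, ∀ a ∈ s, g ^ n • a ∈ s := by
    intro n
    induction n with
    | zero => intro a ha; simpa using ha
    | succ n ih => intro a ha; rw [pow_succ', mul_smul]; exact hinv _ (ih a ha)
  rw [fix_mod hp hH hs (fun h hh a ha => by
    obtain ⟨n, rfl⟩ := mem_powers_iff_mem_zpowers.2 hh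
    exact hpw n a ha)]
  congr 2
  ext a
  simp only [Set.mem_ofPred_eq, and_congr_right_iff]
  intro _
  exact ⟨fun h => h g (mem_zpowers g), fun h k hk =>
    (show zpowers g ≤ MulAction.stabilizer G a from zpowers_le.2 h) hk⟩

end Cfsg.Agent.F11.U
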